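import Mathlib.Algebra.Ring.Subring.Basic
import Mathlib.Algebra.CharP.Lemmas
import Mathlib.Algebra.MvPolynomial.Funext
import Mathlib.Algebra.MvPolynomial.CommRing
import Mathlib.Algebra.Polynomial.Roots
import Mathlib.Algebra.Field.Subfield.Basic
import Mathlib.RingTheory.LittleWedderburn
import Mathlib.FieldTheory.Finite.Basic

/-!
Elements of a field generating an infinite subring, and subsets of affine space stable under
elementary translations.
-/

set_option autoImplicit false

universe u

namespace Groth.L28.ElemAuto

variable {κ : Type u} [Field κ]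

/-- An element generating an infinite subring. -/
def Good (c : κ) : Prop := (Subring.closure {c} : Set κ).Infinite

lemma bad_iff (c : κ) : ¬ Good c ↔
    ∃ p m : ℕ, p.Prime ∧ CharP κ p ∧ 0 < m ∧ c ^ (p ^ m) = c := by
  constructor
  · intro h
    have hfin : (Subring.closure {c} : Set κ).Finite := Set.not_infinite.1 h
    haveI : Finite (Subring.closure {c}) := hfin.to_subtype
    letI := Fintype.ofFinite (Subring.closure {c})
    letI : Field (Subring.closure {c}) := (Finite.isField_of_domain (Subring.closure {c})).toField
    obtain ⟨p, hp⟩ := CharP.exists (Subring.closure {c})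
    haveI := hp
    obtain ⟨m, hprime, hcard⟩ := FiniteField.card (Subring.closure {c}) p
    refine ⟨p, m, hprime, (RingHom.charP_iff (Subring.closure {c}).subtype Subtype.coe_injective p).1 hp,
      m.pos, ?_⟩
    have := FiniteField.pow_card (⟨c, Subring.subset_closure rfl⟩ : Subring.closure {c})
    rw [hcard] at this
    simpa using congrArg Subtype.val this
  · rintro ⟨p, m, hp, _, hm, hc⟩ h
    haveI := Fact.mk hp
    refine h ?_
    have hne : (Polynomial.X ^ (p ^ m) - Polynomial.X : Polynomial κ) ≠ 0 :=
      FiniteField.X_pow_card_pow_sub_X_ne_zero κ hm.ne' hp.one_lt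
    refine (Polynomial.finite_setOfPred_isRoot hne).subset fun x hx => ?_
    show Polynomial.IsRoot _ x
    suffices hx' : x ^ (p ^ m) = x by simp [hx']
    induction hx using Subring.closure_induction with
    | mem x hx => rw [Set.mem_singleton_iff.1 hx, hc]
    | zero => exact zero_pow (pow_pos hp.pos m).ne'
    | one => exact one_pow _
    | add x y _ _ hx hy => rw [add_pow_char_pow, hx, hy]
    | neg x _ hx =>
      rw [← zero_sub, sub_pow_char_pow, zero_pow (pow_pos hp.pos m).ne', hx]
    | mul x y _ _ hx hy => rw [mul_pow, hx, hy]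

lemma pow_mul_fix {p m : ℕ} {c : κ} (h : c ^ (p ^ m) = c) (l : ℕ) : c ^ (p ^ (m * l)) = c := by
  induction l with
  | zero => simp
  | succ l ih => rw [Nat.mul_succ, pow_add, pow_mul, ih, h]

lemma bad_sub {b c : κ} (hb : ¬ Good b) (hc : ¬ Good c) : ¬ Good (b - c) := by
  obtain ⟨p, m, hp, hcp, hm, hb⟩ := (bad_iff b).1 hb
  obtain ⟨p', m', -, hcp', hm', hc⟩ := (bad_iff c).1 hc
  obtain rfl : p = p' := CharP.eq κ hcp hcp'
  haveI := Fact.mk hp
  refine (bad_iff _).2 ⟨p, m * m', hp, hcp, Nat.mul_pos hm hm', ?_⟩
  rw [sub_pow_char_pow, pow_mul_fix hb, mul_comm m m', pow_mul_fix hc]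

lemma infinite_good {c : κ} (hc : Good c) : {x : κ | Good x}.Infinite := by
  intro hfin
  have hinf : ((Subring.closure {c} : Set κ) \ {x | Good x}).Infinite := hc.sdiff hfin
  refine (hinf.image (f := fun d => c + d) fun x _ y _ h => add_left_cancel h).not_finite
    (hfin.subset ?_)
  rintro _ ⟨d, ⟨-, hd⟩, rfl⟩
  by_contra h
  exact bad_sub h hd (by rwa [add_sub_cancel_right])

variable {k : Type u} [Field k] [Algebra k κ] {n : ℕ}

/-- The common zeros in `κⁿ` of an ideal. -/
def Zero (I : Ideal (MvPolynomial (Fin n) k)) (b : Fin n → κ) : Prop :=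
  ∀ f ∈ I, MvPolynomial.aeval b f = 0

variable {I : Ideal (MvPolynomial (Fin n) k)}
  (hI : ∀ (b : Fin n → κ) (i j : Fin n), i ≠ j → ∀ d : ℕ,
    Zero I (Function.update b i (b i + b j ^ d)) ↔ Zero I b)

include hI in
lemma zero_update_add {i j : Fin n} (hij : i ≠ j) {s : κ} (b : Fin n → κ)
    (hs : s ∈ Subring.closure {b j}) (t : κ) :
    Zero I (Function.update b i (t + s)) ↔ Zero I (Function.update b i t) := by
  rw [Subring.mem_closure_iff] at hs
  induction hs using AddSubgroup.closure_induction generalizing t with
  | mem s hs =>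
    obtain ⟨d, rfl⟩ : ∃ d : ℕ, s = b j ^ d := by
      induction hs using Submonoid.closure_induction with
      | mem x hx => exact ⟨1, by rw [pow_one]; exact hx⟩
      | one => exact ⟨0, (pow_zero _).symm⟩
      | mul x y _ _ hx hy =>
        obtain ⟨d, rfl⟩ := hx
        obtain ⟨e, rfl⟩ := hy
        exact ⟨d + e, (pow_add _ _ _).symm⟩
    have := hI (Function.update b i t) i j hij d
    rwa [Function.update_self, Function.update_idem, Function.update_of_ne hij.symm] at this
  | zero => rw [add_zero]
  | add x y _ _ hx hy => rw [← add_assoc, hy, hx]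
  | neg x _ hx =>
    have := hx (t + -x)
    rw [neg_add_cancel_right] at this
    exact this.symm

include hI in
lemma zero_update {i j : Fin n} (hij : i ≠ j) {b : Fin n → κ} (hb : Zero I b) (hj : Good (b j))
    (t : κ) : Zero I (Function.update b i t) := by
  intro f hf
  let P : Polynomial κ :=
    MvPolynomial.aeval (fun l => if l = i then Polynomial.X else Polynomial.C (b l)) f
  have hP : ∀ t, P.eval t = MvPolynomial.aeval (Function.update b i t) f := fun t => by
    show Polynomial.aeval t P = _
    simp only [P]
    rw [← AlgHom.restrictScalars_apply k (Polynomial.aeval t), ← AlgHom.comp_apply,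
      MvPolynomial.comp_aeval]
    congr 2
    funext l
    rcases eq_or_ne l i with rfl | h
    · simp
    · simp [h]
  have : P = 0 := by
    refine Polynomial.eq_zero_of_infinite_isRoot _ ((Set.Infinite.image
      (f := fun s => b i + s) (fun x _ y _ h => add_left_cancel h) hj).mono ?_)
    rintro _ ⟨s, hs, rfl⟩
    show P.eval _ = 0
    rw [hP]
    exact (zero_update_add hI hij b hs (b i)).2 (by rwa [Function.update_eq_self]) f hf
  rw [← hP, this, Polynomial.eval_zero]

include hI in
/-- If a zero has a coordinate generating an infinite subring, the ideal is zero. -/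
theorem eq_bot_of_good {b : Fin n → κ} (hb : Zero I b) {j : Fin n} (hj : Good (b j))
    (hn : ∃ i, i ≠ j) : I = ⊥ := by
  classical
  obtain ⟨i₀, hi₀⟩ := hn
  rw [eq_bot_iff]
  intro f hf
  have hmap : MvPolynomial.map (algebraMap k κ) f = 0 := by
    refine MvPolynomial.funext_set (fun _ : Fin n => {x : κ | Good x}) (fun _ => infinite_good hj) ?_
    intro x hx
    simp only [Set.mem_pi, Set.mem_univ, true_implies, Set.mem_ofPred_eq] at hx
    rw [MvPolynomial.eval_map, ← MvPolynomial.aeval_def, map_zero]
    suffices h : ∀ T : Finset (Fin n), j ∉ T →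
        Zero I (fun l => if l ∈ T then x l else b l) by
      have h1 := zero_update hI hi₀.symm (b := fun l => if l ∈ Finset.univ.erase j then x l else b l)
        (h _ (Finset.notMem_erase j _)) (by simpa [hi₀] using hx i₀) (x j)
      rw [show x = Function.update (fun l => if l ∈ Finset.univ.erase j then x l else b l) j (x j)
        from funext fun l => by rcases eq_or_ne l j with rfl | hl <;> simp_all]
      exact h1 f hf
    intro T
    induction T using Finset.induction_on with
    | empty => intro _; simpa using hb
    | insert a T ha ih =>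
      intro hja
      rw [Finset.mem_insert, not_or] at hja
      have h1 := zero_update hI (i := a) (j := j) (Ne.symm hja.1) (ih hja.2)
        (by simpa [hja.2] using hj) (x a)
      convert h1 using 1
      funext l
      rcases eq_or_ne l a with rfl | hl
      · simp
      · simp [hl]
  exact Ideal.mem_bot.2 (MvPolynomial.map_injective _ (algebraMap k κ).injective
    (hmap.trans (map_zero _).symm))

end Groth.L28.ElemAuto
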